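import Mathlib

/-!
Exact functors with both adjoints which are fully faithful on a spanning set are fully faithful.
-/

set_option autoImplicit false

universe v v' u u'

open CategoryTheory Category Limits Pretriangulated

namespace Groth.Agent.TriFF

variable {D : Type u} [Category.{v} D] [Preadditive D] [HasZeroObject D] [HasShift D ℤ]
  [∀ n : ℤ, (shiftFunctor D n).Additive] [Pretriangulated D]
  {D' : Type u'} [Category.{v'} D'] [Preadditive D'] [HasZeroObject D'] [HasShift D' ℤ]
  [∀ n : ℤ, (shiftFunctor D' n).Additive] [Pretriangulated D']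
  (F : D ⥤ D') [F.CommShift ℤ]

/-- `F` is bijective on `Hom(A, B)` -/
def BijOn (A B : D) : Prop := Function.Bijective (fun f : A ⟶ B => F.map f)

variable {F}

omit [F.CommShift ℤ] in
lemma BijOn.of_iso {A A' B B' : D} (h : BijOn F A B) (a : A ≅ A') (b : B ≅ B') : BijOn F A' B' := by
  refine ⟨fun f g hfg => ?_, fun t => ?_⟩
  · have : a.hom ≫ f ≫ b.inv = a.hom ≫ g ≫ b.inv := h.1 (by
      change F.map _ = F.map _
      simp only [F.map_comp]
      rw [show F.map f = F.map g from hfg])
    simpa using this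
  · obtain ⟨s, hs⟩ := h.2 (F.map a.hom ≫ t ≫ F.map b.inv)
    change F.map s = _ at hs
    refine ⟨a.inv ≫ s ≫ b.hom, ?_⟩
    change F.map _ = t
    rw [F.map_comp, F.map_comp, hs, assoc, assoc, ← F.map_comp, Iso.inv_hom_id, F.map_id, comp_id, ← F.map_comp_assoc,
      Iso.inv_hom_id, F.map_id, id_comp]

lemma BijOn.shift {A B : D} (h : BijOn F A B) (j : ℤ) :
    BijOn F ((shiftFunctor D j).obj A) ((shiftFunctor D j).obj B) := by
  have key : ∀ f : A ⟶ B, F.map ((shiftFunctor D j).map f) =
      (F.commShiftIso j).hom.app A ≫ (shiftFunctor D' j).map (F.map f) ≫ (F.commShiftIso j).inv.app B := fun f => by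
    have := (F.commShiftIso j).hom.naturality f
    simp only [Functor.comp_map] at this
    rw [← reassoc_of% this, Iso.hom_inv_id_app]
    exact (comp_id _).symm
  refine ⟨fun f g hfg => ?_, fun t => ?_⟩
  · obtain ⟨f, rfl⟩ := (shiftFunctor D j).map_surjective f
    obtain ⟨g, rfl⟩ := (shiftFunctor D j).map_surjective g
    change F.map _ = F.map _ at hfg
    rw [key, key, cancel_epi, cancel_mono] at hfg
    exact congrArg _ (h.1 ((shiftFunctor D' j).map_injective hfg))
  · obtain ⟨s, hs⟩ := (shiftFunctor D' j).map_surjective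
      ((F.commShiftIso j).inv.app A ≫ t ≫ (F.commShiftIso j).hom.app B)
    obtain ⟨r, hr⟩ := h.2 s
    refine ⟨(shiftFunctor D j).map r, ?_⟩
    change F.map _ = t
    rw [key, show F.map r = s from hr, hs]
    simp

theorem full_faithful_of_spanning [F.IsLeftAdjoint] [F.IsRightAdjoint] (S : Set D)
    (h2 : ∀ K : D, (∀ E ∈ S, ∀ (i : ℤ) (f : E ⟶ (shiftFunctor D i).obj K), f = 0) → IsZero K)
    (h3 : ∀ K : D, (∀ E ∈ S, ∀ (i : ℤ) (f : K ⟶ (shiftFunctor D i).obj E), f = 0) → IsZero K)
    (h4 : ∀ E ∈ S, ∀ E' ∈ S, ∀ i : ℤ, Function.Bijective (fun f : E ⟶ (shiftFunctor D i).obj E' => F.map f)) :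
    F.Full ∧ F.Faithful := by
  let L := Adjunction.ofIsRightAdjoint F
  let R := Adjunction.ofIsLeftAdjoint F
  have hc : ∀ E ∈ S, IsIso (L.counit.app E) := by
    intro E hE
    obtain ⟨K, g, h, hT⟩ := distinguished_cocone_triangle (L.counit.app E)
    refine (Triangle.isZero₃_iff_isIso₁ _ hT).1 (h3 K fun E' hE' i f => ?_)
    have hw : ∀ {B : D} (φ : E ⟶ B), L.counit.app E ≫ φ = (L.homEquiv _ _).symm (F.map φ) := fun {B} φ => by
      rw [L.homEquiv_counit]
      exact (L.counit.naturality φ).symm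
    have h0 : g ≫ f = 0 := by
      refine (h4 E hE E' hE' i).1 ((L.homEquiv _ _).symm.injective ?_)
      change (L.homEquiv _ _).symm (F.map (g ≫ f)) = (L.homEquiv _ _).symm (F.map 0)
      refine (hw _).symm.trans (Eq.trans ?_ (hw _))
      refine (assoc _ _ _).symm.trans ?_
      refine (congrArg (· ≫ f) (comp_distTriang_mor_zero₁₂ _ hT : L.counit.app E ≫ g = 0)).trans ?_
      exact zero_comp.trans comp_zero.symm
    obtain ⟨f', rfl⟩ := Triangle.yoneda_exact₃ _ hT f h0
    let e := (shiftFunctorAdd' D (i - 1) 1 i (by omega)).app E'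
    obtain ⟨f'', hf''⟩ := (shiftFunctor D (1 : ℤ)).map_surjective (f' ≫ e.hom)
    obtain ⟨ψ, hψ⟩ := (h4 E hE E' hE' (i - 1)).2 ((L.homEquiv _ _) f'')
    have hψ' : L.counit.app E ≫ ψ = f'' := by
      rw [hw, show F.map ψ = _ from hψ, Equiv.symm_apply_apply]
    refine (cancel_mono e.hom).1 (Eq.trans ?_ zero_comp.symm)
    refine (assoc _ _ _).trans ((congrArg (_ ≫ ·) hf''.symm).trans ?_)
    refine (congrArg (_ ≫ ·) (congrArg _ hψ'.symm |>.trans ((shiftFunctor D (1 : ℤ)).map_comp _ _))).trans ?_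
    exact (assoc _ _ _).symm.trans ((congrArg (· ≫ _) (comp_distTriang_mor_zero₃₁ _ hT)).trans zero_comp)
  have hbij : ∀ E ∈ S, ∀ X, BijOn F E X := by
    intro E hE X
    haveI := hc E hE
    have hw : (fun φ : E ⟶ X => F.map φ) = (L.homEquiv _ _) ∘ (fun φ : E ⟶ X => L.counit.app E ≫ φ) := by
      funext φ
      change F.map φ = L.homEquiv _ _ (L.counit.app E ≫ φ)
      refine ((L.homEquiv _ _).symm.injective ?_)
      refine Eq.trans ?_ ((L.homEquiv _ _).symm_apply_apply (L.counit.app E ≫ φ)).symm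
      rw [L.homEquiv_counit]
      exact L.counit.naturality φ
    rw [BijOn, hw]
    refine (Equiv.bijective _).comp ⟨fun a b hab => (cancel_epi _).1 hab, fun t => ⟨inv (L.counit.app E) ≫ t, ?_⟩⟩
    exact IsIso.hom_inv_id_assoc _ t
  have hbij' : ∀ E ∈ S, ∀ (j : ℤ) X, BijOn F ((shiftFunctor D j).obj E) X := fun E hE j X =>
    ((hbij E hE ((shiftFunctor D (-j)).obj X)).shift j).of_iso (Iso.refl _)
      ((shiftFunctorCompIsoId D (-j) j (by omega)).app X)
  haveI : ∀ X, IsIso (R.unit.app X) := fun X => by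
    obtain ⟨K, g, h, hT⟩ := distinguished_cocone_triangle (R.unit.app X)
    refine (Triangle.isZero₃_iff_isIso₁ _ hT).1 (h2 K fun E hE i f => ?_)
    have hpost : ∀ j : ℤ, Function.Bijective (fun φ : (shiftFunctor D j).obj E ⟶ X => φ ≫ R.unit.app X) := fun j => by
      have hw : (fun φ : (shiftFunctor D j).obj E ⟶ X => φ ≫ R.unit.app X) =
          (R.homEquiv _ _) ∘ (fun φ : (shiftFunctor D j).obj E ⟶ X => F.map φ) := by
        funext φ
        simp only [Function.comp_apply, R.homEquiv_unit]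
        exact R.unit.naturality φ
      rw [hw]
      exact (Equiv.bijective _).comp (hbij' E hE j X)
    let e := (shiftFunctorCompIsoId D i (-i) (by omega)).app K
    suffices hz : (shiftFunctor D (-i)).map f ≫ e.hom = 0 by
      refine (shiftFunctor D (-i)).map_injective ?_
      rw [← cancel_mono e.hom, hz, Functor.map_zero, zero_comp]
    generalize (shiftFunctor D (-i)).map f ≫ e.hom = u
    have h0 : u ≫ h = 0 := by
      let a := (shiftFunctorAdd' D (-i - 1) 1 (-i) (by omega)).app E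
      obtain ⟨v, hv⟩ := (shiftFunctor D (1 : ℤ)).map_surjective (a.inv ≫ u ≫ h)
      have hv0 : v ≫ R.unit.app X = 0 := by
        refine (shiftFunctor D (1 : ℤ)).map_injective ?_
        rw [Functor.map_comp, hv, Functor.map_zero]
        simp only [assoc]
        exact (congrArg (fun z => a.inv ≫ u ≫ z) (comp_distTriang_mor_zero₃₁ _ hT)).trans
          ((congrArg (a.inv ≫ ·) comp_zero).trans comp_zero)
      have : v = 0 := (hpost (-i - 1)).1 (hv0.trans zero_comp.symm)
      rw [← cancel_epi a.inv, comp_zero, ← hv, this, Functor.map_zero]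
    obtain ⟨u', rfl⟩ := Triangle.coyoneda_exact₃ _ hT u h0
    obtain ⟨ψ, hψ⟩ := (hpost (-i)).2 u'
    change ψ ≫ R.unit.app X = u' at hψ
    rw [← hψ]
    refine (assoc _ _ _).trans ?_
    exact (congrArg (ψ ≫ ·) (comp_distTriang_mor_zero₁₂ _ hT)).trans comp_zero
  haveI : IsIso R.unit := NatIso.isIso_of_isIso_app _
  exact ⟨R.fullyFaithfulLOfIsIsoUnit.full, R.fullyFaithfulLOfIsIsoUnit.faithful⟩

end Groth.Agent.TriFF
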